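import Groth.Agent.ResProp.EF.K936.Stmts
import Groth.Agent.ResProp.EF.K416.Tw

/-!
# G6a: acyclicity on classes

For a FIN datum `F`, every class of positive degree of `H^j(N.tw n)` is killed by a power of each `x i`.
-/

set_option autoImplicit false

universe u

open TensorProduct

noncomputable section

namespace Groth.Agent.ResProp.EF.K936

open Groth.Agent.ResProp.EF.K83 Groth.Agent.ResProp.EF.K416
open Groth.Agent.ResProp.EF.Fin669 (pw)

variable {R : Type u} [CommRing R] {A : Type u} [CommRing A] [HopfAlgebra R A] [Module.Flat R A]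
  {D : Type u} [CommRing D] [Algebra R D] {c : CoAlg R A D}

/-- **Ac on classes.** -/
theorem Ac (F : FinDatum R A D c) (N : HM c) (i : Fin (F.r + 1)) (j : ℕ) (hj : 1 ≤ j) (n : ℕ)
    (v : Vf F.hχ N j n) :
    ∃ k : ℕ, pw (V := fun n => Vf F.hχ N j n) (fun i => x F.hχ F.hs N i j) i n k v = 0 := by
  obtain ⟨j, rfl⟩ : ∃ j', j = j' + 1 := ⟨j - 1, by omega⟩
  obtain ⟨z, rfl⟩ := mk_surj R A (j + 1) v
  obtain ⟨k, hk⟩ := Stmts.stmtAc R A D c F N.V N.co N.hm n j i z.1 z.2
  exact ⟨k, pw_mk_eq_zero F.hχ F.hs N i (j + 1) n z k hk⟩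

end Groth.Agent.ResProp.EF.K936
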