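import Groth.Agent.ResProp.EF.K936.T3Tw
import Groth.Agent.ResProp.EF.K83.Nodes
import Groth.Agent.ResProp.EF.K849.T1

/-!
# G6a: the nodes `StmtT3`, `StmtT3b`, `StmtAc`
-/

set_option autoImplicit false

universe u

open TensorProduct

noncomputable section

namespace Groth.Agent.ResProp.EF.K936.Stmts

open Groth.Agent.ResProp.EF.K936.Tel Groth.Agent.ResProp.EF.K936.T3 K187.HochMap Groth.Agent.ResProp.EF.K83

theorem stmtT3 : StmtT3.{u} := by
  intro R _ A _ _ _ D _ _ c s χ hχ hs g N _ _ _ _ co hN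
  obtain ⟨coL, hL, hf, -⟩ := exists_comod hχ hs g.Ds g.compat co hN (TensorProduct.mk D g.Ds N 1)
  exact ⟨{ Ns := g.Ds ⊗[D] N, f := TensorProduct.mk D g.Ds N 1, cos := coL, hopf := hL,
           colin := fun n => LinearMap.congr_fun hf n }⟩

theorem stmtT3b : StmtT3b.{u} := by
  intro R _ A _ _ _ D _ _ c s χ hχ hs g N _ _ _ _ co hN L z hz
  have htel := isTel (R := R) (s := s) L.f
  have hpw : ∀ (n : ℕ) (m : N), ((Algebra.lsmul R R N s) ^ n) m = s ^ n • m := by
    intro n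
    induction n with
    | zero => intro m; simp
    | succ n ih => intro m; rw [pow_succ, Module.End.mul_apply, ih, pow_succ, mul_smul]; rfl
  have hpwL : ∀ (n : ℕ) (m : L.Ns), ((Algebra.lsmul R R L.Ns s) ^ n) m = s ^ n • m := by
    intro n
    induction n with
    | zero => intro m; simp
    | succ n ih => intro m; rw [pow_succ, Module.End.mul_apply, ih, pow_succ, mul_smul]; rfl
  obtain ⟨b, y, hy⟩ := htel.surj z
  rw [hpwL] at hy
  have hy' : L.f y = s ^ b • z := hy.symm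
  -- the coaction on `s ^ b • z`
  have hsb : ∀ n : ℕ, c.ρ (s ^ n) = (s ^ n) ⊗ₜ[R] (χ ^ n) := by
    intro n
    rw [_root_.map_pow, hs, Algebra.TensorProduct.tmul_pow]
  have h1 : L.cos.coact (s ^ b • z) = (s ^ b • z) ⊗ₜ[R] (χ ^ b) := by
    rw [← algebraMap_smul g.Ds (s ^ b) z, L.hopf.smul, g.compat, hsb, hz]
    change (algebraMap D g.Ds (s ^ b) • z) ⊗ₜ[R] (χ ^ b * 1) = _
    rw [mul_one]
  have h2 : (L.f.restrictScalars R).rTensor A (co.coact y - y ⊗ₜ[R] (χ ^ b)) = 0 := by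
    rw [map_sub, ← L.colin, hy', h1, LinearMap.rTensor_tmul, sub_eq_zero]
    exact congrArg (· ⊗ₜ[R] (χ ^ b)) hy'.symm
  obtain ⟨l, hl⟩ := (htel.rTensor A).inj _ h2
  have hl' : act N ((s ^ l) ⊗ₜ[R] (1 : A)) (co.coact y - y ⊗ₜ[R] (χ ^ b)) = 0 := by
    have e : ∀ (n : ℕ) (p : N ⊗[R] A), (((Algebra.lsmul R R N s).rTensor A) ^ n) p = act N ((s ^ n) ⊗ₜ[R] (1 : A)) p := by
      intro n
      induction n with
      | zero =>
        intro p
        induction p using TensorProduct.induction_on with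
        | zero => simp
        | add p p' hp hp' => rw [map_add, hp, hp', map_add]
        | tmul w b => rw [act_tmul, pow_zero, pow_zero, one_smul, one_mul]; rfl
      | succ n ih =>
        intro p
        rw [pow_succ, Module.End.mul_apply, ih, pow_succ]
        have : ((s ^ n * s) ⊗ₜ[R] (1 : A)) = ((s ^ n) ⊗ₜ[R] (1 : A)) * (s ⊗ₜ[R] (1 : A)) := by
          rw [Algebra.TensorProduct.tmul_mul_tmul, mul_one]
        rw [this, act_mul]
        congr 1
        induction p using TensorProduct.induction_on with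
        | zero => simp
        | add p p' hp hp' => rw [map_add, hp, hp', map_add]
        | tmul w b => rw [act_tmul, one_mul]; rfl
    rw [← e]
    exact hl
  refine ⟨l + b, s ^ l • y, ?_, ?_⟩
  · rw [map_smul, hy', smul_smul, pow_add]
  · rw [hN.smul, hsb]
    have h3 : act N ((s ^ l) ⊗ₜ[R] (χ ^ l)) (co.coact y - y ⊗ₜ[R] (χ ^ b)) = 0 := by
      have : ((s ^ l) ⊗ₜ[R] (χ ^ l) : D ⊗[R] A) = ((1 : D) ⊗ₜ[R] (χ ^ l)) * ((s ^ l) ⊗ₜ[R] (1 : A)) := by
        rw [Algebra.TensorProduct.tmul_mul_tmul, one_mul, mul_one]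
      rw [this, act_mul, hl', map_zero]
    rw [map_sub, sub_eq_zero] at h3
    refine h3.trans ?_
    rw [act_tmul, pow_add]

theorem stmtAc : StmtAc.{u} := by
  intro R _ A _ _ _ D _ _ c F N _ _ _ _ co hN m j i z hz
  obtain ⟨k, y, hy⟩ := kill_twist F.hχ.antipode F.hχ.antipode_mul_cancel (F.hs i) hN (F.loc i).Ds (F.loc i).compat j
    (fun L _ _ _ _ coL hL z hz => by
      obtain ⟨b, hb⟩ := K849.T1 (F.loc i) L coL hL j (show z ∈ @Hoch.cocycles R _ A _ _ L _ _ coL (j + 1) from hz)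
      exact ⟨b, hb⟩) m z hz
  refine ⟨k, y, ?_⟩
  refine hy.trans ?_
  have e : ∀ n : ℕ, (mulBy (F.s i ^ n) : N →ₗ[R] N) = (Algebra.lsmul R R N (F.s i)) ^ n := by
    intro n
    exact _root_.map_pow (Algebra.lsmul R R N) (F.s i) n
  rw [e, map_pow]

end Groth.Agent.ResProp.EF.K936.Stmts
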