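import Mathlib.RingTheory.Localization.BaseChange
import Mathlib.LinearAlgebra.TensorProduct.Tower

/-!
# Localization commutes with tensor products over a smaller ring

`isLocalizedModule_map`: if `ι : N → L` is a localization at `S ⊆ D` then so is `ι ⊗ W : N ⊗[k] W → L ⊗[k] W`, `k → D`.
-/

set_option autoImplicit false

open TensorProduct

namespace Groth.Agent.ResProp.EF.K936.LocTens

variable {k D : Type*} [CommRing k] [CommRing D] [Algebra k D] (S : Submonoid D)
variable {N L : Type*} [AddCommGroup N] [AddCommGroup L] [Module k N] [Module D N] [IsScalarTower k D N]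
variable [Module k L] [Module D L] [IsScalarTower k D L]
variable (W : Type*) [AddCommGroup W] [Module k W]
variable (ι : N →ₗ[D] L)

/-- `ι ⊗ W` as a `D`-linear map -/
noncomputable def tm : N ⊗[k] W →ₗ[D] L ⊗[k] W := AlgebraTensorModule.map ι (LinearMap.id : W →ₗ[k] W)

@[simp] theorem tm_tmul (n : N) (w : W) : tm (k := k) W ι (n ⊗ₜ w) = ι n ⊗ₜ w := rfl

theorem tm_eq_rTensor (y : N ⊗[k] W) : tm (k := k) W ι y = (ι.restrictScalars k).rTensor W y := by
  induction y with
  | zero => simp
  | tmul n w => rfl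
  | add a b ha hb => rw [map_add, map_add, ha, hb]

theorem isLocalizedModule_map [IsLocalizedModule S ι] : IsLocalizedModule S (tm (k := k) W ι) := by
  let e0 : L ≃ₗ[D] Localization S ⊗[D] N :=
    IsLocalizedModule.linearEquiv S ι (TensorProduct.mk D (Localization S) N 1)
  have he0 : ∀ n, e0 (ι n) = 1 ⊗ₜ n := fun n => IsLocalizedModule.linearEquiv_apply S ι _ n
  let e1 : L ⊗[k] W ≃ₗ[D] (Localization S ⊗[D] N) ⊗[k] W :=
    AlgebraTensorModule.congr e0 (LinearEquiv.refl k W)
  let e2 : (Localization S ⊗[D] N) ⊗[k] W ≃ₗ[D] Localization S ⊗[D] (N ⊗[k] W) :=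
    (AlgebraTensorModule.assoc k D D (Localization S) N W)
  have h : tm (k := k) W ι = (e1.trans e2).symm.toLinearMap ∘ₗ (TensorProduct.mk D (Localization S) (N ⊗[k] W) 1) := by
    refine LinearMap.ext fun y => ?_
    rw [LinearMap.comp_apply, LinearEquiv.coe_coe, LinearEquiv.eq_symm_apply]
    induction y with
    | zero => simp
    | tmul n w =>
      rw [tm_tmul]
      change e2 (e1 (ι n ⊗ₜ w)) = _
      change e2 ((e0 (ι n)) ⊗ₜ w) = _
      rw [he0]
      rfl
    | add a b ha hb => rw [map_add, map_add, map_add, ha, hb]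
  rw [h]
  exact IsLocalizedModule.of_linearEquiv S _ _

end Groth.Agent.ResProp.EF.K936.LocTens
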