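import Groth.Agent.ResProp.EF.K936.Tel
import Groth.Agent.ResProp.EF.K83.FinDatum
import Groth.Agent.HopfRep.K187.HochMap
import Mathlib.RingTheory.HopfAlgebra.GroupLike

/-!
# FIN(H), node T3: localization of Hopf modules at a semi-invariant

* `exists_comod`: `N_s` is a `(D_s, A)`-Hopf module and `N → N_s` a comodule map;
* `kill`, `kill_twist`: a cocycle of `N(n)` which is a coboundary in `N_s(n)` becomes one in `N(n + m)`, `m ≫ 0`;
* `exists_semi`: invariants of `N_s` are fractions `m / s ^ k`, `m` semi-invariant of weight `χ ^ k`.
-/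

set_option autoImplicit false

universe u v

open TensorProduct

noncomputable section

namespace Groth.Agent.ResProp.EF.K936.T3

open Groth.Agent.ResProp.EF.K936.Tel K187.HochMap

section Cochain

variable (k : Type u) [CommRing k] (A : Type v) [Ring A] [Bialgebra k A]
variable {N L : Type v} [AddCommGroup N] [Module k N] [AddCommGroup L] [Module k L]
variable {σ : N →ₗ[k] N} {ι : N →ₗ[k] L} {σL : L →ₗ[k] L}

theorem isTel_map (h : IsTel σ ι σL) (n : ℕ) : IsTel (map k A σ n) (map k A ι n) (map k A σL n) := by
  induction n with
  | zero => exact h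
  | succ n ih => exact ih.rTensor A

theorem map_pow (f : N →ₗ[k] N) (n m : ℕ) : map k A (f ^ m) n = (map k A f n) ^ m := by
  induction m with
  | zero => exact map_id k A n
  | succ m ih =>
    rw [pow_succ, pow_succ, ← ih]
    exact map_comp k A (f ^ m) f n

/-- the Hochschild differential with the comodule structure explicit -/
abbrev dd {V : Type v} [AddCommGroup V] [Module k V] (c : HopfRep.Comod k A V) (n : ℕ) :
    (Hoch.cochain k A V n : Type v) →ₗ[k] (Hoch.cochain k A V (n + 1) : Type v) := @Hoch.d k _ A _ _ V _ _ c n

/-- comodule maps with the comodule structures explicit -/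
abbrev IsHom {V W : Type v} [AddCommGroup V] [Module k V] [AddCommGroup W] [Module k W]
    (c : HopfRep.Comod k A V) (c' : HopfRep.Comod k A W) (f : V →ₗ[k] W) : Prop :=
  @Hoch.IsComodHom k _ A _ _ _ V _ _ c W _ _ c' f

theorem dd_map {V W : Type v} [AddCommGroup V] [Module k V] [AddCommGroup W] [Module k W]
    {c : HopfRep.Comod k A V} {c' : HopfRep.Comod k A W} {f : V →ₗ[k] W} (h : IsHom k A c c' f) (n : ℕ)
    (x : Hoch.cochain k A V n) : dd k A c' n (map k A f n x) = map k A f (n + 1) (dd k A c n x) :=
  @d_map_apply k _ A _ _ V W _ _ _ _ c c' f h n x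

/-- powers of a shift between a sequence of comodule structures -/
theorem dd_pow {c : ℕ → HopfRep.Comod k A N} (hσ : ∀ n, IsHom k A (c n) (c (n + 1)) σ) (n m j : ℕ)
    (x : Hoch.cochain k A N j) :
    dd k A (c (n + m)) j (((map k A σ j) ^ m) x) = ((map k A σ (j + 1)) ^ m) (dd k A (c n) j x) := by
  induction m with
  | zero => rfl
  | succ m ih =>
    rw [pow_succ', pow_succ', Module.End.mul_apply, Module.End.mul_apply, ← ih]
    exact dd_map k A (hσ (n + m)) j _

/-- A cocycle of `N(n)` that is a coboundary in the localization is one in `N(n + m)`, `m ≫ 0`. -/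
theorem kill (h : IsTel σ ι σL) (c : ℕ → HopfRep.Comod k A N) (cL : ℕ → HopfRep.Comod k A L)
    (hσ : ∀ n, IsHom k A (c n) (c (n + 1)) σ) (hι : ∀ n, IsHom k A (c n) (cL n) ι)
    (hσL : ∀ n, IsHom k A (cL n) (cL (n + 1)) σL) (j n : ℕ) (z : Hoch.cochain k A N (j + 1))
    (b : Hoch.cochain k A L j) (hb : dd k A (cL n) j b = map k A ι (j + 1) z) :
    ∃ (m : ℕ) (y : Hoch.cochain k A N j), dd k A (c (n + m)) j y = ((map k A σ (j + 1)) ^ m) z := by
  obtain ⟨m, y, hy⟩ := (isTel_map k A h j).surj b
  have h1 : map k A ι (j + 1) (dd k A (c (n + m)) j y) = map k A ι (j + 1) (((map k A σ (j + 1)) ^ m) z) := by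
    rw [← dd_map k A (hι (n + m)) j y, ← hy, dd_pow k A hσL n m j b, hb, ← (isTel_map k A h (j + 1)).comm_pow]
  obtain ⟨l, hl⟩ := (isTel_map k A h (j + 1)).inj (dd k A (c (n + m)) j y - ((map k A σ (j + 1)) ^ m) z) (by
    rw [map_sub, h1, sub_self])
  refine ⟨m + l, ((map k A σ j) ^ l) y, ?_⟩
  rw [map_sub, sub_eq_zero, ← Module.End.mul_apply, ← pow_add] at hl
  rw [add_comm m l, ← hl, ← dd_pow k A hσ (n + m) l j y, add_comm l m, add_assoc]

end Cochain

section Act

variable {R : Type u} [CommRing R] {A : Type u} [CommRing A] [HopfAlgebra R A]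
variable {D : Type u} [CommRing D] [Algebra R D]
variable {N : Type u} [AddCommGroup N] [Module R N] [Module D N] [IsScalarTower R D N]

/-- the action of `D ⊗ A` on `N ⊗ A` -/
abbrev act (N : Type u) [AddCommGroup N] [Module R N] [Module D N] [IsScalarTower R D N] :
    D ⊗[R] A →ₗ[R] N ⊗[R] A →ₗ[R] N ⊗[R] A :=
  TensorProduct.map₂ (Algebra.lsmul R R N).toLinearMap (LinearMap.mul R A)

theorem act_tmul (d : D) (a : A) (n : N) (b : A) :
    act N (d ⊗ₜ[R] a) (n ⊗ₜ[R] b) = (d • n) ⊗ₜ[R] (a * b) := rfl

theorem act_mul (x y : D ⊗[R] A) (p : N ⊗[R] A) : act N (x * y) p = act N x (act N y p) := by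
  induction x using TensorProduct.induction_on with
  | zero => simp
  | add x x' hx hx' => rw [add_mul, map_add, LinearMap.add_apply, hx, hx', map_add, LinearMap.add_apply]
  | tmul d a =>
    induction y using TensorProduct.induction_on with
    | zero => simp
    | add y y' hy hy' => rw [mul_add, map_add, LinearMap.add_apply, hy, hy', map_add, LinearMap.add_apply, map_add]
    | tmul d' a' =>
      induction p using TensorProduct.induction_on with
      | zero => simp
      | add p p' hp hp' => rw [map_add, hp, hp', map_add, map_add]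
      | tmul n b => rw [Algebra.TensorProduct.tmul_mul_tmul, act_tmul, act_tmul, act_tmul, mul_smul, mul_assoc]

/-- the automorphism `s ⊗ χ` -/
abbrev tau (N : Type u) [AddCommGroup N] [Module R N] [Module D N] [IsScalarTower R D N] (s : D) (χ : A) :
    N ⊗[R] A →ₗ[R] N ⊗[R] A := act N (s ⊗ₜ[R] χ)

theorem tau_bijective (s : D) (χ : A) (hs : Function.Bijective fun n : N => s • n) (hχ : IsUnit χ) :
    Function.Bijective (tau (R := R) N s χ) := by
  let eN : N ≃ₗ[R] N := LinearEquiv.ofBijective (Algebra.lsmul R R N s) hs
  obtain ⟨u, rfl⟩ := hχ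
  have hu : Function.Bijective (LinearMap.mulLeft R (u : A)) :=
    ⟨fun a b h => u.isUnit.mul_left_cancel h, fun b => ⟨(↑u⁻¹ : A) * b, by simp⟩⟩
  let eA : A ≃ₗ[R] A := LinearEquiv.ofBijective (LinearMap.mulLeft R (u : A)) hu
  have : tau (R := R) N s (u : A) = (TensorProduct.congr eN eA).toLinearMap := by
    refine TensorProduct.ext' fun n a => ?_
    rfl
  rw [this]
  exact (TensorProduct.congr eN eA).bijective

end Act

section Exists

open Groth.Agent.ResProp.EF.K83

variable {R : Type u} [CommRing R] {A : Type u} [CommRing A] [HopfAlgebra R A]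
variable {D : Type u} [CommRing D] [Algebra R D] {c : CoAlg R A D} {s : D} {χ : A} (hχ : IsGroupLikeElem R χ)
  (hs : c.ρ s = s ⊗ₜ[R] χ)
variable (Ds : Type u) [CommRing Ds] [Algebra R Ds] [Algebra D Ds] [IsScalarTower R D Ds] [IsLocalization.Away s Ds]
  {cs : CoAlg R A Ds}
  (compat : ∀ x : D, cs.ρ (algebraMap D Ds x) =
    Algebra.TensorProduct.map (IsScalarTower.toAlgHom R D Ds) (AlgHom.id R A) (c.ρ x))
variable {N : Type u} [AddCommGroup N] [Module R N] [Module D N] [IsScalarTower R D N]
  (co : HopfRep.Comod R A N) (hN : IsHopfMod c N co)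
variable {L : Type u} [AddCommGroup L] [Module R L] [Module D L] [IsScalarTower R D L] [Module Ds L]
  [IsScalarTower D Ds L] [IsScalarTower R Ds L] (f : N →ₗ[D] L) [IsLocalizedModule (Submonoid.powers s) f]

include f in
theorem isTel : IsTel (Algebra.lsmul R R N s) (f.restrictScalars R) (Algebra.lsmul R R L s) :=
  IsTel.of_isLocalizedModule s f (fun _ => rfl) (fun _ => rfl) (fun _ => rfl)

/-- the map `N → L ⊗ A` -/
abbrev g0 : N →ₗ[R] L ⊗[R] A := (f.restrictScalars R).rTensor A ∘ₗ co.coact

theorem rTensor_act (x : D ⊗[R] A) (p : N ⊗[R] A) :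
    (f.restrictScalars R).rTensor A (act N x p) = act L x ((f.restrictScalars R).rTensor A p) := by
  induction x using TensorProduct.induction_on with
  | zero => simp
  | add x x' hx hx' => rw [map_add, LinearMap.add_apply, map_add, hx, hx', map_add, LinearMap.add_apply]
  | tmul d a =>
    induction p using TensorProduct.induction_on with
    | zero => simp
    | add p p' hp hp' => rw [map_add, map_add, hp, hp', map_add, map_add]
    | tmul n b =>
      rw [act_tmul, LinearMap.rTensor_tmul, LinearMap.rTensor_tmul, act_tmul]
      congr 1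
      exact f.map_smul d n

include hN in
theorem g0_smul (d : D) (n : N) : g0 co f (d • n) = act L (c.ρ d) (g0 co f n) := by
  change (f.restrictScalars R).rTensor A (co.coact (d • n)) = _
  rw [hN.smul d n]
  exact rTensor_act f (c.ρ d) (co.coact n)

/-- the action of `D ⊗ A` through `D_s ⊗ A` -/
theorem act_alg (x : D ⊗[R] A) (p : L ⊗[R] A) :
    act L (Algebra.TensorProduct.map (IsScalarTower.toAlgHom R D Ds) (AlgHom.id R A) x) p = act L x p := by
  induction x using TensorProduct.induction_on with
  | zero => simp
  | add x x' hx hx' => rw [map_add, map_add, map_add, LinearMap.add_apply, LinearMap.add_apply, hx, hx']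
  | tmul d a =>
    induction p using TensorProduct.induction_on with
    | zero => simp
    | add p p' hp hp' => rw [map_add, map_add, hp, hp']
    | tmul n b =>
      rw [Algebra.TensorProduct.map_tmul, act_tmul, act_tmul]
      congr 1
      exact algebraMap_smul Ds d n

include hχ hs Ds compat hN in
/-- **T3 (a)**: `N_s` is a `(D_s, A)`-Hopf module and `N → N_s` is a comodule map. -/
theorem exists_comod : ∃ coL : HopfRep.Comod R A L, IsHopfMod cs L coL ∧ IsHom R A co coL (f.restrictScalars R) ∧
    (∀ z : L, coL.coact (s • z) = tau (R := R) L s χ (coL.coact z)) := by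
  have htel := isTel (R := R) (s := s) f
  have hsL : Function.Bijective fun z : L => s • z := htel.bij
  have hχu : IsUnit χ := hχ.isUnit
  have hτ := tau_bijective (R := R) (N := L) s χ hsL hχu
  obtain ⟨F, hF1, hF2⟩ := htel.exists_lift (g0 co f) (tau (R := R) L s χ) hτ (fun y => by
    have h1 := g0_smul co hN f s y
    rw [hs] at h1
    exact h1)
  have hF1' : ∀ n, F (f n) = g0 co f n := hF1
  have hF2' : ∀ z : L, F (s • z) = tau (R := R) L s χ (F z) := hF2
  have hΔ : CoalgebraStruct.comul (R := R) χ = χ ⊗ₜ[R] χ := hχ.comul_eq_tmul_self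
  have hε : CoalgebraStruct.counit (R := R) χ = 1 := hχ.counit_eq_one
  -- coassociativity
  have hassoc : (TensorProduct.assoc R L A A).toLinearMap ∘ₗ F.rTensor A ∘ₗ F =
      (CoalgebraStruct.comul (R := R) (A := A)).lTensor L ∘ₗ F := by
    let T3 : L ⊗[R] (A ⊗[R] A) →ₗ[R] L ⊗[R] (A ⊗[R] A) :=
      TensorProduct.map (Algebra.lsmul R R L s) (LinearMap.mulLeft R (χ ⊗ₜ[R] χ : A ⊗[R] A))
    have hT3 : Function.Bijective T3 := by
      let eN : L ≃ₗ[R] L := LinearEquiv.ofBijective (Algebra.lsmul R R L s) hsL
      have hu2 : IsUnit (χ ⊗ₜ[R] χ : A ⊗[R] A) := by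
        have : (χ ⊗ₜ[R] χ : A ⊗[R] A) = Algebra.TensorProduct.includeLeft (R := R) (S := R) (A := A) (B := A) χ *
            Algebra.TensorProduct.includeRight (R := R) (A := A) (B := A) χ := by
          simp
        rw [this]
        exact (hχu.map _).mul (hχu.map _)
      obtain ⟨u, hu⟩ := hu2
      have hub : Function.Bijective (LinearMap.mulLeft R (χ ⊗ₜ[R] χ : A ⊗[R] A)) := by
        rw [← hu]
        exact ⟨fun a b h => u.isUnit.mul_left_cancel h, fun b => ⟨(↑u⁻¹ : A ⊗[R] A) * b, by simp⟩⟩
      let eA : A ⊗[R] A ≃ₗ[R] A ⊗[R] A := LinearEquiv.ofBijective _ hub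
      have : T3 = (TensorProduct.congr eN eA).toLinearMap := TensorProduct.ext' fun n a => rfl
      rw [this]
      exact (TensorProduct.congr eN eA).bijective
    have e1 : ∀ p : L ⊗[R] A, TensorProduct.assoc R L A A (F.rTensor A (tau (R := R) L s χ p)) =
        T3 (TensorProduct.assoc R L A A (F.rTensor A p)) := by
      intro p
      induction p using TensorProduct.induction_on with
      | zero => simp
      | add p p' hp hp' => rw [map_add, map_add, map_add, hp, hp', map_add, map_add, map_add]
      | tmul z a =>
        rw [act_tmul, LinearMap.rTensor_tmul, LinearMap.rTensor_tmul, hF2']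
        generalize F z = q
        induction q using TensorProduct.induction_on with
        | zero => simp
        | add p p' hp hp' => rw [map_add, add_tmul, map_add, hp, hp', add_tmul, map_add, map_add]
        | tmul w b =>
          rw [act_tmul, TensorProduct.assoc_tmul, TensorProduct.assoc_tmul, TensorProduct.map_tmul,
            LinearMap.mulLeft_apply, Algebra.TensorProduct.tmul_mul_tmul]
          rfl
    have e2 : ∀ p : L ⊗[R] A, (CoalgebraStruct.comul (R := R) (A := A)).lTensor L (tau (R := R) L s χ p) =
        T3 ((CoalgebraStruct.comul (R := R) (A := A)).lTensor L p) := by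
      intro p
      induction p using TensorProduct.induction_on with
      | zero => simp
      | add p p' hp hp' => rw [map_add, map_add, map_add, hp, hp', map_add]
      | tmul z a =>
        rw [act_tmul, LinearMap.lTensor_tmul, LinearMap.lTensor_tmul, TensorProduct.map_tmul,
            LinearMap.mulLeft_apply, Bialgebra.comul_mul, hΔ]
        rfl
    have h := htel.ext (f := ((TensorProduct.assoc R L A A).toLinearMap ∘ₗ F.rTensor A ∘ₗ F).toAddMonoidHom)
      (g := ((CoalgebraStruct.comul (R := R) (A := A)).lTensor L ∘ₗ F).toAddMonoidHom) T3 hT3.1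
      (fun z => by
        change TensorProduct.assoc R L A A (F.rTensor A (F (s • z))) = T3 (TensorProduct.assoc R L A A (F.rTensor A (F z)))
        rw [hF2', e1])
      (fun z => by
        change (CoalgebraStruct.comul (R := R) (A := A)).lTensor L (F (s • z)) =
          T3 ((CoalgebraStruct.comul (R := R) (A := A)).lTensor L (F z))
        rw [hF2', e2])
      (fun y => by
        change TensorProduct.assoc R L A A (F.rTensor A (F (f y))) =
          (CoalgebraStruct.comul (R := R) (A := A)).lTensor L (F (f y))
        rw [hF1']
        have h1 := LinearMap.congr_fun co.coassoc y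
        change TensorProduct.assoc R N A A (co.coact.rTensor A (co.coact y)) =
          (CoalgebraStruct.comul (R := R) (A := A)).lTensor N (co.coact y) at h1
        have h2 : ∀ p : N ⊗[R] A, TensorProduct.assoc R L A A (F.rTensor A ((f.restrictScalars R).rTensor A p)) =
            (f.restrictScalars R).rTensor (A ⊗[R] A) (TensorProduct.assoc R N A A (co.coact.rTensor A p)) := by
          intro p
          induction p using TensorProduct.induction_on with
          | zero => simp
          | add p p' hp hp' => simp only [map_add, hp, hp']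
          | tmul n a =>
            rw [LinearMap.rTensor_tmul, LinearMap.rTensor_tmul, LinearMap.rTensor_tmul]
            change TensorProduct.assoc R L A A ((F (f n)) ⊗ₜ[R] a) = _
            rw [hF1']
            change TensorProduct.assoc R L A A (((f.restrictScalars R).rTensor A (co.coact n)) ⊗ₜ[R] a) = _
            generalize co.coact n = q
            induction q using TensorProduct.induction_on with
            | zero => simp
            | add p p' hp hp' => simp only [map_add, add_tmul, hp, hp']
            | tmul w b => simp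
        change TensorProduct.assoc R L A A (F.rTensor A ((f.restrictScalars R).rTensor A (co.coact y))) =
          (CoalgebraStruct.comul (R := R) (A := A)).lTensor L ((f.restrictScalars R).rTensor A (co.coact y))
        rw [h2, h1]
        generalize co.coact y = q
        induction q using TensorProduct.induction_on with
        | zero => simp
        | add p p' hp hp' => simp only [map_add, hp, hp']
        | tmul w b => simp)
    refine LinearMap.ext fun z => ?_
    exact DFunLike.congr_fun h z
  -- counit
  have hcounit : (CoalgebraStruct.counit (R := R) (A := A)).lTensor L ∘ₗ F = (TensorProduct.mk R L R).flip 1 := by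
    let T1 : L ⊗[R] R →ₗ[R] L ⊗[R] R := (Algebra.lsmul R R L s).rTensor R
    have hT1 : Function.Bijective T1 :=
      ((LinearEquiv.ofBijective (Algebra.lsmul R R L s) hsL).rTensor R).bijective
    have h := htel.ext (f := ((CoalgebraStruct.counit (R := R) (A := A)).lTensor L ∘ₗ F).toAddMonoidHom)
      (g := ((TensorProduct.mk R L R).flip 1).toAddMonoidHom) T1 hT1.1
      (fun z => by
        change (CoalgebraStruct.counit (R := R) (A := A)).lTensor L (F (s • z)) =
          T1 ((CoalgebraStruct.counit (R := R) (A := A)).lTensor L (F z))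
        rw [hF2']
        generalize F z = q
        induction q using TensorProduct.induction_on with
        | zero => simp
        | add p p' hp hp' => simp only [map_add, hp, hp']
        | tmul w b =>
          rw [act_tmul, LinearMap.lTensor_tmul, LinearMap.lTensor_tmul, Bialgebra.counit_mul, hε, one_mul]
          rfl)
      (fun z => rfl)
      (fun y => by
        change (CoalgebraStruct.counit (R := R) (A := A)).lTensor L (F (f y)) = (f y) ⊗ₜ[R] (1 : R)
        rw [hF1']
        have h1 := LinearMap.congr_fun co.counit_comp y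
        change (CoalgebraStruct.counit (R := R) (A := A)).lTensor N (co.coact y) = y ⊗ₜ[R] (1 : R) at h1
        have h2 : ∀ p : N ⊗[R] A, (CoalgebraStruct.counit (R := R) (A := A)).lTensor L
            ((f.restrictScalars R).rTensor A p) =
            (f.restrictScalars R).rTensor R ((CoalgebraStruct.counit (R := R) (A := A)).lTensor N p) := by
          intro p
          induction p using TensorProduct.induction_on with
          | zero => simp
          | add p p' hp hp' => simp only [map_add, hp, hp']
          | tmul w b => simp
        change (CoalgebraStruct.counit (R := R) (A := A)).lTensor L ((f.restrictScalars R).rTensor A (co.coact y)) = _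
        rw [h2, h1]
        rfl)
    refine LinearMap.ext fun z => ?_
    exact DFunLike.congr_fun h z
  let coL : HopfRep.Comod R A L := { coact := F, coassoc := hassoc, counit_comp := hcounit }
  refine ⟨coL, ⟨?_⟩, ?_, hF2'⟩
  · -- semilinearity
    have hD : ∀ (x : D) (z : L), F (x • z) = act L (c.ρ x) (F z) := by
      intro x
      have h := htel.ext (f := (F ∘ₗ (Algebra.lsmul R R L x)).toAddMonoidHom)
        (g := ((act L (c.ρ x)) ∘ₗ F).toAddMonoidHom) (tau (R := R) L s χ) hτ.1
        (fun z => by
          change F (x • s • z) = tau (R := R) L s χ (F (x • z))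
          rw [smul_comm, hF2'])
        (fun z => by
          change act L (c.ρ x) (F (s • z)) = act L (s ⊗ₜ[R] χ) (act L (c.ρ x) (F z))
          rw [hF2', ← act_mul, ← act_mul, mul_comm])
        (fun y => by
          change F (x • f y) = act L (c.ρ x) (F (f y))
          rw [← f.map_smul, hF1', hF1']
          exact g0_smul co hN f x y)
      exact fun z => DFunLike.congr_fun h z
    intro d z
    obtain ⟨⟨x, ⟨_, n, rfl⟩⟩, hx⟩ := IsLocalization.surj (Submonoid.powers s) d
    have hx' : d * algebraMap D Ds (s ^ n) = algebraMap D Ds x := hx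
    have hsn : Function.Injective (act L (c.ρ (s ^ n))) := by
      rw [_root_.map_pow, hs]
      have : ∀ m : ℕ, Function.Injective (act L ((s ⊗ₜ[R] χ : D ⊗[R] A) ^ m)) := by
        intro m
        induction m with
        | zero =>
          intro p q hpq
          rw [pow_zero, Algebra.TensorProduct.one_def] at hpq
          have h1 : ∀ p : L ⊗[R] A, act L ((1 : D) ⊗ₜ[R] (1 : A)) p = p := by
            intro p
            induction p using TensorProduct.induction_on with
            | zero => simp
            | add p p' hp hp' => rw [map_add, hp, hp']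
            | tmul w b => rw [act_tmul, one_smul, one_mul]
          rwa [h1, h1] at hpq
        | succ m ih =>
          intro p q hpq
          rw [pow_succ, act_mul, act_mul] at hpq
          exact hτ.1 (ih hpq)
      exact this n
    apply hsn
    change act L (c.ρ (s ^ n)) (F (d • z)) = act L (c.ρ (s ^ n)) (act L (cs.ρ d) (F z))
    rw [← hD, ← act_alg Ds (c.ρ (s ^ n)), ← compat, ← act_mul, ← map_mul, mul_comm, hx', compat, act_alg, ← hD,
      ← algebraMap_smul Ds (s ^ n), smul_smul, mul_comm, hx', algebraMap_smul]
  · refine LinearMap.ext fun n => ?_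
    exact hF1' n

end Exists

end Groth.Agent.ResProp.EF.K936.T3
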