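import Groth.Agent.ResProp.EF.K936.T3

/-!
# FIN(H), node T3: twisted form

`N(n)` is `N` with the coaction multiplied by `g ^ n`, `g * χ = 1`, `χ` the weight of `s`.
-/

set_option autoImplicit false

universe u

open TensorProduct

noncomputable section

namespace Groth.Agent.ResProp.EF.K936.T3

open Groth.Agent.ResProp.EF.K936.Tel K187.HochMap Groth.Agent.ResProp.EF.K83

variable {R : Type u} [CommRing R] {A : Type u} [CommRing A] [HopfAlgebra R A]
variable {D : Type u} [CommRing D] [Algebra R D] {c : CoAlg R A D}

/-- the `n`-th twist -/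
@[reducible] def tw {N : Type u} [AddCommGroup N] [Module R N] (co : HopfRep.Comod R A N) {g : A}
    (hg : IsGroupLikeElem R g) (n : ℕ) : HopfRep.Comod R A N := ComodTens.Comod.twist co (g ^ n) hg.pow

theorem twist_hopf {N : Type u} [AddCommGroup N] [Module R N] [Module D N] [IsScalarTower R D N]
    {co : HopfRep.Comod R A N} (hN : IsHopfMod c N co) {g : A} (hg : IsGroupLikeElem R g) :
    IsHopfMod c N (ComodTens.Comod.twist co g hg) := by
  refine ⟨fun d n => ?_⟩
  rw [ComodTens.twist_coact, ComodTens.twist_coact, hN.smul]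
  generalize c.ρ d = x
  generalize co.coact n = p
  induction x using TensorProduct.induction_on with
  | zero => simp
  | add x x' hx hx' => rw [map_add, LinearMap.add_apply, map_add, hx, hx', ← LinearMap.add_apply]
  | tmul d a =>
    induction p using TensorProduct.induction_on with
    | zero => simp
    | add p p' hp hp' => simp only [map_add, hp, hp']
    | tmul n b =>
      change (LinearMap.mulRight R g).lTensor N ((d • n) ⊗ₜ[R] (a * b)) = (d • n) ⊗ₜ[R] (a * (b * g))
      rw [LinearMap.lTensor_tmul, LinearMap.mulRight_apply, mul_assoc]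

theorem twist_hom {N L : Type u} [AddCommGroup N] [Module R N] [AddCommGroup L] [Module R L]
    {co : HopfRep.Comod R A N} {coL : HopfRep.Comod R A L} {f : N →ₗ[R] L} (h : IsHom R A co coL f) {g : A}
    (hg : IsGroupLikeElem R g) : IsHom R A (ComodTens.Comod.twist co g hg) (ComodTens.Comod.twist coL g hg) f := by
  refine LinearMap.ext fun n => ?_
  have h1 : coL.coact (f n) = f.rTensor A (co.coact n) := LinearMap.congr_fun h n
  change (LinearMap.mulRight R g).lTensor L (coL.coact (f n)) =
    f.rTensor A ((LinearMap.mulRight R g).lTensor N (co.coact n))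
  rw [h1]
  generalize co.coact n = p
  induction p using TensorProduct.induction_on with
  | zero => simp
  | add p p' hp hp' => simp only [map_add, hp, hp']
  | tmul n b => simp

variable {s : D} {χ g : A} (hg : IsGroupLikeElem R g) (hgχ : g * χ = 1) (hs : c.ρ s = s ⊗ₜ[R] χ)
variable {N : Type u} [AddCommGroup N] [Module R N] [Module D N] [IsScalarTower R D N]
  {co : HopfRep.Comod R A N} (hN : IsHopfMod c N co)

include hgχ hs hN in
/-- multiplication by `s` is a comodule map `N(n) → N(n+1)` -/
theorem shift_hom (n : ℕ) : IsHom R A (tw co hg n) (tw co hg (n + 1)) (Algebra.lsmul R R N s) := by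
  refine LinearMap.ext fun m => ?_
  change (LinearMap.mulRight R (g ^ (n + 1))).lTensor N (co.coact (s • m)) =
    (Algebra.lsmul R R N s).rTensor A ((LinearMap.mulRight R (g ^ n)).lTensor N (co.coact m))
  rw [hN.smul, hs]
  generalize co.coact m = p
  induction p using TensorProduct.induction_on with
  | zero => simp
  | add p p' hp hp' => simp only [map_add, hp, hp']
  | tmul w b =>
    change (LinearMap.mulRight R (g ^ (n + 1))).lTensor N ((s • w) ⊗ₜ[R] (χ * b)) = _
    rw [LinearMap.lTensor_tmul, LinearMap.lTensor_tmul, LinearMap.rTensor_tmul, LinearMap.mulRight_apply,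
      LinearMap.mulRight_apply]
    have e : χ * b * g ^ (n + 1) = b * g ^ n := by
      rw [pow_succ]
      calc χ * b * (g ^ n * g) = (g * χ) * (b * g ^ n) := by ring
        _ = b * g ^ n := by rw [hgχ, one_mul]
    rw [e]
    rfl

variable (Ds : Type u) [CommRing Ds] [Algebra R Ds] [Algebra D Ds] [IsScalarTower R D Ds] [IsLocalization.Away s Ds]
  {cs : CoAlg R A Ds}
  (compat : ∀ x : D, cs.ρ (algebraMap D Ds x) =
    Algebra.TensorProduct.map (IsScalarTower.toAlgHom R D Ds) (AlgHom.id R A) (c.ρ x))

include hgχ hs hN compat in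
/-- **T3 (b)**: if all `(D_s, A)`-Hopf modules are acyclic in degree `j + 1`, a cocycle of `N(n)` of degree `j + 1`
becomes a coboundary in `N(n + m)`, `m ≫ 0`. -/
theorem kill_twist (j : ℕ)
    (hac : ∀ (L : Type u) [AddCommGroup L] [Module R L] [Module Ds L] [IsScalarTower R Ds L]
      (coL : HopfRep.Comod R A L), IsHopfMod cs L coL →
        ∀ z : Hoch.cochain R A L (j + 1), dd R A coL (j + 1) z = 0 → ∃ b : Hoch.cochain R A L j, dd R A coL j b = z)
    (n : ℕ) (z : Hoch.cochain R A N (j + 1)) (hz : dd R A (tw co hg n) (j + 1) z = 0) :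
    ∃ (m : ℕ) (y : Hoch.cochain R A N j), dd R A (tw co hg (n + m)) j y =
      ((map R A (Algebra.lsmul R R N s) (j + 1)) ^ m) z := by
  have hχ : IsGroupLikeElem R χ := by
    have e : χ = HopfAlgebra.antipode R g := by
      have h1 := hg.mul_antipode_cancel
      calc χ = χ * (g * HopfAlgebra.antipode R g) := by rw [h1, mul_one]
        _ = (g * χ) * HopfAlgebra.antipode R g := by ring
        _ = HopfAlgebra.antipode R g := by rw [hgχ, one_mul]
    rw [e]
    exact hg.antipode
  let f : N →ₗ[D] Ds ⊗[D] N := TensorProduct.mk D Ds N 1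
  obtain ⟨coL, hL, hf, hs'⟩ := exists_comod hχ hs Ds compat co hN f
  have htel := isTel (R := R) (s := s) f
  have hshift : ∀ n : ℕ, IsHom R A (tw coL hg n) (tw coL hg (n + 1)) (Algebra.lsmul R R (Ds ⊗[D] N) s) := by
    intro n
    refine LinearMap.ext fun m => ?_
    change (LinearMap.mulRight R (g ^ (n + 1))).lTensor (Ds ⊗[D] N) (coL.coact (s • m)) =
      (Algebra.lsmul R R (Ds ⊗[D] N) s).rTensor A ((LinearMap.mulRight R (g ^ n)).lTensor (Ds ⊗[D] N) (coL.coact m))
    rw [hs']
    generalize coL.coact m = p
    induction p using TensorProduct.induction_on with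
    | zero => simp
    | add p p' hp hp' => simp only [map_add, hp, hp']
    | tmul w b =>
      rw [act_tmul, LinearMap.lTensor_tmul, LinearMap.lTensor_tmul, LinearMap.rTensor_tmul, LinearMap.mulRight_apply,
        LinearMap.mulRight_apply]
      have e : χ * b * g ^ (n + 1) = b * g ^ n := by
        rw [pow_succ]
        calc χ * b * (g ^ n * g) = (g * χ) * (b * g ^ n) := by ring
          _ = b * g ^ n := by rw [hgχ, one_mul]
      rw [e]
      rfl
  have hz' : dd R A (tw coL hg n) (j + 1) (map R A (f.restrictScalars R) (j + 1) z) = 0 := by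
    rw [dd_map R A (twist_hom hf hg.pow) (j + 1) z, hz, map_zero]
  obtain ⟨b, hb⟩ := hac (Ds ⊗[D] N) (tw coL hg n) (twist_hopf hL hg.pow) _ hz'
  exact kill R A htel (fun n => tw co hg n) (fun n => tw coL hg n) (fun n => shift_hom hg hgχ hs hN n)
    (fun n => twist_hom hf hg.pow) hshift j n z b hb

end Groth.Agent.ResProp.EF.K936.T3
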