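import Groth.Agent.ResProp.EF.K936.LocTens
import Mathlib.Algebra.Polynomial.Module.AEval

/-!
# Telescopes

`IsTel σ ι σL` : `ι : N → L` is the localization of `N` at the endomorphism `σ`, `σL` being the automorphism induced on
`L`.  `IsTel.rTensor`: stable under tensor products.  `IsTel.lift`, `IsTel.ext`: the universal property.
-/

set_option autoImplicit false

open TensorProduct Polynomial

namespace Groth.Agent.ResProp.EF.K936.Tel

variable {k : Type*} [CommRing k]
variable {N L : Type*} [AddCommGroup N] [AddCommGroup L] [Module k N] [Module k L]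

/-- `ι : N → L` is the localization of `N` at the endomorphism `σ` -/
structure IsTel (σ : N →ₗ[k] N) (ι : N →ₗ[k] L) (σL : L →ₗ[k] L) : Prop where
  comm : ∀ n, ι (σ n) = σL (ι n)
  bij : Function.Bijective σL
  surj : ∀ z, ∃ (n : ℕ) (y : N), (σL ^ n) z = ι y
  inj : ∀ y, ι y = 0 → ∃ n : ℕ, (σ ^ n) y = 0

namespace IsTel

variable {σ : N →ₗ[k] N} {ι : N →ₗ[k] L} {σL : L →ₗ[k] L}

theorem comm_pow (h : IsTel σ ι σL) (n : ℕ) (y : N) : ι ((σ ^ n) y) = (σL ^ n) (ι y) := by
  induction n generalizing y with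
  | zero => simp
  | succ n ih => rw [pow_succ, pow_succ, Module.End.mul_apply, Module.End.mul_apply, ih, h.comm]

theorem pow_bij (h : IsTel σ ι σL) (n : ℕ) : Function.Bijective (σL ^ n : L →ₗ[k] L) := by
  induction n with
  | zero => exact Function.bijective_id
  | succ n ih =>
    have : ⇑(σL ^ (n + 1) : L →ₗ[k] L) = ⇑(σL ^ n : L →ₗ[k] L) ∘ ⇑σL := by
      funext z
      rw [pow_succ, Module.End.mul_apply]; rfl
    rw [this]
    exact ih.comp h.bij

theorem of_isLocalizedModule {D : Type*} [CommRing D] [Algebra k D] [Module D N] [IsScalarTower k D N]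
    [Module D L] [IsScalarTower k D L] (s : D) (j : N →ₗ[D] L) [IsLocalizedModule (Submonoid.powers s) j]
    (hσ : ∀ n, σ n = s • n) (hL : ∀ z, σL z = s • z) (hι : ∀ n, ι n = j n) : IsTel σ ι σL := by
  have hσn : ∀ (n : ℕ) y, (σ ^ n) y = s ^ n • y := by
    intro n
    induction n with
    | zero => intro y; simp
    | succ n ih => intro y; rw [pow_succ, Module.End.mul_apply, ih, hσ, smul_smul, pow_succ]
  have hLn : ∀ (n : ℕ) y, (σL ^ n) y = s ^ n • y := by
    intro n
    induction n with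
    | zero => intro y; simp
    | succ n ih => intro y; rw [pow_succ, Module.End.mul_apply, ih, hL, smul_smul, pow_succ]
  refine ⟨fun n => by rw [hι, hσ, hL, hι, map_smul], ?_, fun z => ?_, fun y hy => ?_⟩
  · have h1 := (Module.End.isUnit_iff _).1
      (IsLocalizedModule.map_units (S := Submonoid.powers s) j ⟨s, Submonoid.mem_powers s⟩)
    have : ⇑σL = ⇑(algebraMap D (Module.End D L) ((⟨s, Submonoid.mem_powers s⟩ : Submonoid.powers s) : D)) := by
      funext z
      rw [hL, Module.algebraMap_end_apply]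
    rw [this]
    exact h1
  · obtain ⟨⟨y, ⟨_, n, rfl⟩⟩, h⟩ := IsLocalizedModule.surj (Submonoid.powers s) j z
    refine ⟨n, y, ?_⟩
    rw [hLn, hι]
    exact h
  · rw [hι] at hy
    obtain ⟨⟨_, n, rfl⟩, h⟩ := (IsLocalizedModule.eq_zero_iff (Submonoid.powers s) j).1 hy
    exact ⟨n, by rw [hσn]; exact h⟩

/-- a telescope is a localization over the polynomial ring -/
theorem isLocalizedModule (h : IsTel σ ι σL) :
    ∃ j : Module.AEval' σ →ₗ[k[X]] Module.AEval' σL, (∀ n, j (Module.AEval'.of σ n) = Module.AEval'.of σL (ι n)) ∧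
      IsLocalizedModule (Submonoid.powers (X : k[X])) j := by
  let j : Module.AEval' σ →ₗ[k[X]] Module.AEval' σL :=
    LinearMap.ofAEval σ ((Module.AEval'.of σL).toLinearMap ∘ₗ ι) (fun m => by
      change Module.AEval'.of σL (ι (σ m)) = X • Module.AEval'.of σL (ι m)
      rw [h.comm]
      exact (Module.AEval'.X_smul_of σL (ι m)).symm)
  have hj : ∀ n, j (Module.AEval'.of σ n) = Module.AEval'.of σL (ι n) := fun n => rfl
  have hX : ∀ (n : ℕ) (z : L), (X : k[X]) ^ n • Module.AEval'.of σL z = Module.AEval'.of σL ((σL ^ n) z) := by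
    intro n
    induction n with
    | zero => intro z; simp
    | succ n ih => intro z; rw [pow_succ, mul_smul, Module.AEval'.X_smul_of, ih, pow_succ, Module.End.mul_apply]
  have hX' : ∀ (n : ℕ) (z : N), (X : k[X]) ^ n • Module.AEval'.of σ z = Module.AEval'.of σ ((σ ^ n) z) := by
    intro n
    induction n with
    | zero => intro z; simp
    | succ n ih => intro z; rw [pow_succ, mul_smul, Module.AEval'.X_smul_of, ih, pow_succ, Module.End.mul_apply]
  refine ⟨j, hj, ⟨?_, ?_, ?_⟩⟩
  · rintro ⟨_, n, rfl⟩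
    rw [Module.End.isUnit_iff]
    have : (⇑(algebraMap k[X] (Module.End k[X] (Module.AEval' σL)) ((⟨X ^ n, n, rfl⟩ : Submonoid.powers (X : k[X])) : k[X]))) =
        (Module.AEval'.of σL) ∘ (σL ^ n : L →ₗ[k] L) ∘ (Module.AEval'.of σL).symm := by
      funext z
      obtain ⟨z, rfl⟩ := (Module.AEval'.of σL).surjective z
      rw [Module.algebraMap_end_apply]
      change X ^ n • _ = _
      rw [hX]
      simp
    change Function.Bijective (⇑(algebraMap k[X] (Module.End k[X] (Module.AEval' σL)) ((⟨X ^ n, n, rfl⟩ : Submonoid.powers (X : k[X])) : k[X])))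
    rw [this]
    exact (Module.AEval'.of σL).bijective.comp ((h.pow_bij n).comp (Module.AEval'.of σL).symm.bijective)
  · intro z
    obtain ⟨z, rfl⟩ := (Module.AEval'.of σL).surjective z
    obtain ⟨n, y, hy⟩ := h.surj z
    refine ⟨(Module.AEval'.of σ y, ⟨X ^ n, n, rfl⟩), ?_⟩
    change (X : k[X]) ^ n • Module.AEval'.of σL z = j (Module.AEval'.of σ y)
    rw [hX, hy, hj]
  · intro x y hxy
    obtain ⟨x, rfl⟩ := (Module.AEval'.of σ).surjective x
    obtain ⟨y, rfl⟩ := (Module.AEval'.of σ).surjective y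
    rw [hj, hj] at hxy
    have h1 : ι (x - y) = 0 := by rw [map_sub, (Module.AEval'.of σL).injective hxy, sub_self]
    obtain ⟨n, hn⟩ := h.inj _ h1
    refine ⟨⟨X ^ n, n, rfl⟩, ?_⟩
    change (X : k[X]) ^ n • Module.AEval'.of σ x = (X : k[X]) ^ n • Module.AEval'.of σ y
    rw [hX', hX', ← sub_eq_zero, ← map_sub, ← map_sub, hn, map_zero]

theorem rTensor (h : IsTel σ ι σL) (W : Type*) [AddCommGroup W] [Module k W] :
    IsTel (σ.rTensor W) (ι.rTensor W) (σL.rTensor W) := by
  obtain ⟨j, hj, hloc⟩ := h.isLocalizedModule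
  have h2 := LocTens.isLocalizedModule_map (k := k) (Submonoid.powers (X : k[X])) W j
  let eN : N ≃ₗ[k] Module.AEval' σ := Module.AEval'.of σ
  let eL : L ≃ₗ[k] Module.AEval' σL := Module.AEval'.of σL
  let fN : N ⊗[k] W ≃ₗ[k] Module.AEval' σ ⊗[k] W := eN.rTensor W
  let fL : L ⊗[k] W ≃ₗ[k] Module.AEval' σL ⊗[k] W := eL.rTensor W
  have h3 : IsTel (fN.conj (σ.rTensor W)) (fL.toLinearMap ∘ₗ (ι.rTensor W) ∘ₗ fN.symm.toLinearMap)
      (fL.conj (σL.rTensor W)) := by
    refine of_isLocalizedModule (D := k[X]) X (LocTens.tm (k := k) W j) (fun y => ?_) (fun y => ?_) (fun y => ?_)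
    · obtain ⟨y, rfl⟩ := fN.surjective y
      rw [LinearEquiv.conj_apply_apply, LinearEquiv.symm_apply_apply]
      induction y with
      | zero => simp
      | tmul n w =>
        change (eN (σ n)) ⊗ₜ[k] w = (X : k[X]) • ((eN n) ⊗ₜ[k] w)
        rw [TensorProduct.smul_tmul']
        exact congrArg (· ⊗ₜ[k] w) (Module.AEval'.X_smul_of σ n).symm
      | add a b ha hb => rw [map_add, map_add, map_add, smul_add, ha, hb]
    · obtain ⟨y, rfl⟩ := fL.surjective y
      rw [LinearEquiv.conj_apply_apply, LinearEquiv.symm_apply_apply]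
      induction y with
      | zero => simp
      | tmul n w =>
        change (eL (σL n)) ⊗ₜ[k] w = (X : k[X]) • ((eL n) ⊗ₜ[k] w)
        rw [TensorProduct.smul_tmul']
        exact congrArg (· ⊗ₜ[k] w) (Module.AEval'.X_smul_of σL n).symm
      | add a b ha hb => rw [map_add, map_add, map_add, smul_add, ha, hb]
    · obtain ⟨y, rfl⟩ := fN.surjective y
      rw [LinearMap.comp_apply, LinearMap.comp_apply, LinearEquiv.coe_coe, LinearEquiv.coe_coe,
        LinearEquiv.symm_apply_apply]
      induction y with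
      | zero => simp
      | tmul n w =>
        change (eL (ι n)) ⊗ₜ[k] w = j (eN n) ⊗ₜ[k] w
        exact congrArg (· ⊗ₜ[k] w) (hj n).symm
      | add a b ha hb => rw [map_add, map_add, map_add, map_add, ha, hb]
  have hcN : ∀ (n : ℕ) y, ((fN.conj (σ.rTensor W)) ^ n) (fN y) = fN (((σ.rTensor W) ^ n) y) := by
    intro n
    induction n with
    | zero => intro y; rfl
    | succ n ih =>
      intro y
      rw [pow_succ, Module.End.mul_apply, LinearEquiv.conj_apply_apply, LinearEquiv.symm_apply_apply, ih, pow_succ,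
        Module.End.mul_apply]
  have hcL : ∀ (n : ℕ) y, ((fL.conj (σL.rTensor W)) ^ n) (fL y) = fL (((σL.rTensor W) ^ n) y) := by
    intro n
    induction n with
    | zero => intro y; rfl
    | succ n ih =>
      intro y
      rw [pow_succ, Module.End.mul_apply, LinearEquiv.conj_apply_apply, LinearEquiv.symm_apply_apply, ih, pow_succ,
        Module.End.mul_apply]
  refine ⟨fun y => ?_, ?_, fun z => ?_, fun y hy => ?_⟩
  · have := h3.comm (fN y)
    rw [LinearMap.comp_apply, LinearMap.comp_apply, LinearMap.comp_apply, LinearMap.comp_apply,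
      LinearEquiv.conj_apply_apply, LinearEquiv.coe_coe, LinearEquiv.coe_coe, LinearEquiv.symm_apply_apply,
      LinearEquiv.symm_apply_apply, LinearEquiv.conj_apply_apply, LinearEquiv.symm_apply_apply] at this
    exact fL.injective this
  · have e : ⇑(σL.rTensor W) = ⇑fL.symm ∘ ⇑(fL.conj (σL.rTensor W)) ∘ ⇑fL := by
      funext y
      change _ = fL.symm (fL.conj (σL.rTensor W) (fL y))
      rw [LinearEquiv.conj_apply_apply, LinearEquiv.symm_apply_apply, LinearEquiv.symm_apply_apply]
    rw [e]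
    exact fL.symm.bijective.comp (h3.bij.comp fL.bijective)
  · obtain ⟨n, y, hy⟩ := h3.surj (fL z)
    obtain ⟨y, rfl⟩ := fN.surjective y
    rw [hcL, LinearMap.comp_apply, LinearMap.comp_apply, LinearEquiv.coe_coe, LinearEquiv.coe_coe,
      LinearEquiv.symm_apply_apply] at hy
    exact ⟨n, y, fL.injective hy⟩
  · obtain ⟨n, hn⟩ := h3.inj (fN y) (by
      rw [LinearMap.comp_apply, LinearMap.comp_apply, LinearEquiv.coe_coe, LinearEquiv.coe_coe,
        LinearEquiv.symm_apply_apply, hy, map_zero])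
    rw [hcN] at hn
    exact ⟨n, fN.injective (hn.trans (map_zero fN).symm)⟩

/-- uniqueness of maps out of a telescope -/
theorem ext (h : IsTel σ ι σL) {P : Type*} [AddCommGroup P] {f g : L →+ P} (τ : P → P)
    (hτ : Function.Injective τ) (hf : ∀ z, f (σL z) = τ (f z)) (hg : ∀ z, g (σL z) = τ (g z))
    (hfg : ∀ y, f (ι y) = g (ι y)) : f = g := by
  have hfn : ∀ (n : ℕ) z, f ((σL ^ n) z) = τ^[n] (f z) := by
    intro n
    induction n with
    | zero => intro z; rfl
    | succ n ih => intro z; rw [pow_succ, Module.End.mul_apply, ih, hf, Function.iterate_succ_apply]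
  have hgn : ∀ (n : ℕ) z, g ((σL ^ n) z) = τ^[n] (g z) := by
    intro n
    induction n with
    | zero => intro z; rfl
    | succ n ih => intro z; rw [pow_succ, Module.End.mul_apply, ih, hg, Function.iterate_succ_apply]
  ext z
  obtain ⟨n, y, hy⟩ := h.surj z
  apply hτ.iterate n
  rw [← hfn, ← hgn, hy, hfg]

/-- existence of maps out of a telescope -/
theorem exists_lift (h : IsTel σ ι σL) {P : Type*} [AddCommGroup P] [Module k P] (f : N →ₗ[k] P) (τ : P →ₗ[k] P)
    (hτ : Function.Bijective τ) (hf : ∀ y, f (σ y) = τ (f y)) :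
    ∃ F : L →ₗ[k] P, (∀ y, F (ι y) = f y) ∧ ∀ z, F (σL z) = τ (F z) := by
  have hτn : ∀ n : ℕ, Function.Bijective (τ ^ n : P →ₗ[k] P) := by
    intro n
    induction n with
    | zero => exact Function.bijective_id
    | succ n ih =>
      have : ⇑(τ ^ (n + 1) : P →ₗ[k] P) = ⇑(τ ^ n : P →ₗ[k] P) ∘ ⇑τ := by
        funext z
        rw [pow_succ, Module.End.mul_apply]; rfl
      rw [this]
      exact ih.comp hτ
  have hfn : ∀ (n : ℕ) y, f ((σ ^ n) y) = (τ ^ n) (f y) := by
    intro n
    induction n with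
    | zero => intro y; rfl
    | succ n ih => intro y; rw [pow_succ, Module.End.mul_apply, ih, hf, pow_succ, Module.End.mul_apply]
  -- the value is independent of the choices
  have hex : ∀ z, ∃ p : P, ∀ (n : ℕ) (y : N), (σL ^ n) z = ι y → (τ ^ n) p = f y := by
    intro z
    obtain ⟨n, y, hy⟩ := h.surj z
    obtain ⟨p, hp⟩ := (hτn n).2 (f y)
    refine ⟨p, fun m y' hy' => ?_⟩
    have h1 : ι ((σ ^ m) y - (σ ^ n) y') = 0 := by
      rw [map_sub, h.comm_pow, h.comm_pow, ← hy, ← hy', ← Module.End.mul_apply, ← Module.End.mul_apply, ← pow_add,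
        ← pow_add, add_comm, sub_self]
    obtain ⟨l, hl⟩ := h.inj _ h1
    rw [map_sub, sub_eq_zero] at hl
    have h2 : (τ ^ l) ((τ ^ m) (f y)) = (τ ^ l) ((τ ^ n) (f y')) := by
      rw [← hfn, ← hfn, ← hfn, ← hfn, hl]
    have h3 := (hτn l).1 h2
    rw [← hp, ← Module.End.mul_apply, ← pow_add, add_comm, pow_add, Module.End.mul_apply] at h3
    exact (hτn n).1 h3
  choose F hF using hex
  have huniq : ∀ z (n : ℕ) y, (σL ^ n) z = ι y → ∀ p, (τ ^ n) p = f y → p = F z := by
    intro z n y hy p hp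
    apply (hτn n).1
    rw [hp, hF z n y hy]
  refine ⟨{ toFun := F, map_add' := fun z z' => ?_, map_smul' := fun r z => ?_ }, fun y => ?_, fun z => ?_⟩
  · obtain ⟨n, y, hy⟩ := h.surj z
    obtain ⟨n', y', hy'⟩ := h.surj z'
    refine (huniq (z + z') (n' + n) ((σ ^ n') y + (σ ^ n) y') ?_ _ ?_).symm
    · rw [map_add, map_add, h.comm_pow, h.comm_pow, ← hy, ← hy', ← Module.End.mul_apply, ← Module.End.mul_apply,
        ← pow_add, ← pow_add, add_comm n n']
    · rw [map_add, map_add, hfn, hfn, ← hF z n y hy, ← hF z' n' y' hy', ← Module.End.mul_apply,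
        ← Module.End.mul_apply, ← pow_add, ← pow_add, add_comm n n']
  · obtain ⟨n, y, hy⟩ := h.surj z
    refine (huniq (r • z) n (r • y) ?_ _ ?_).symm
    · rw [map_smul, map_smul, hy]
    · rw [RingHom.id_apply, map_smul, map_smul, hF z n y hy]
  · exact (huniq (ι y) 0 y rfl _ rfl).symm
  · obtain ⟨n, y, hy⟩ := h.surj z
    refine (huniq (σL z) n (σ y) ?_ _ ?_).symm
    · rw [← Module.End.mul_apply, ← pow_succ, pow_succ', Module.End.mul_apply, hy, h.comm]
    · rw [← Module.End.mul_apply, ← pow_succ, pow_succ', Module.End.mul_apply]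
      change τ ((τ ^ n) (F z)) = _
      rw [hF z n y hy, hf]

end IsTel

end Groth.Agent.ResProp.EF.K936.Tel
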